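import Mathlib

/-! Linear algebra for `SR4/IB`: `S₆` acting on a group of order 16. -/

set_option autoImplicit false

namespace Cfsg.Agent.SR4.IB

variable {Γ W : Type*} [Group Γ] [AddCommGroup W] [DistribMulAction Γ W]

variable (W) in
/-- fixed vectors -/
def Fx (x : Γ) : AddSubgroup W where
  carrier := {v | x • v = v}
  zero_mem' := smul_zero x
  add_mem' := fun {u v} hu hv => by
    change x • (u + v) = u + v
    rw [smul_add, hu, hv]
  neg_mem' := fun {u} hu => by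
    change x • (-u) = -u
    rw [smul_neg, hu]

theorem mem_Fx {x : Γ} {v : W} : v ∈ Fx W x ↔ x • v = v := Iff.rfl

theorem Fx_conj (g x : Γ) {v : W} : g • v ∈ Fx W (g * x * g⁻¹) ↔ v ∈ Fx W x := by
  rw [mem_Fx, mem_Fx, mul_smul, mul_smul, inv_smul_smul, smul_left_cancel_iff]

theorem Fx_conj_bot (g : Γ) {x : Γ} (h : Fx W x = ⊥) : Fx W (g * x * g⁻¹) = ⊥ :=
  eq_bot_iff.2 fun v hv => by
    rw [← smul_inv_smul g v, Fx_conj, h, AddSubgroup.mem_bot, smul_eq_zero_iff_eq] at hv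
    exact hv

theorem fx_mod [Finite W] (D : AddSubgroup W) {x : Γ} (r : ℕ) [Fact r.Prime] (hx : x ^ r = 1)
    (h : ∀ v ∈ D, x • v ∈ D) : Nat.card D ≡ Nat.card (D ⊓ Fx W x : AddSubgroup W) [MOD r] := by
  classical
  have := Fintype.ofFinite D
  let f : Function.End D := fun d => ⟨x • d, h d d.2⟩
  have k : ∀ (n : ℕ) (d : D), ((f ^ n) d : W) = x ^ n • (d : W) := fun n => by
    induction n with
    | zero => intro d; simp; rfl
    | succ n ih => intro d; rw [pow_succ, pow_succ, mul_smul]; exact ih (f d)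
  have := Equiv.Perm.card_fixedPoints_modEq (p := r) (n := 1) (f := f) (by
    funext d; exact Subtype.ext (by rw [k, pow_one, hx, one_smul]; rfl))
  rw [← Nat.card_eq_fintype_card, ← Nat.card_eq_fintype_card] at this
  refine this.trans (by
    rw [Nat.card_congr (β := (D ⊓ Fx W x : AddSubgroup W))
      ⟨fun d => ⟨d.1, d.1.2, congrArg Subtype.val d.2⟩, fun d => ⟨⟨d, d.2.1⟩, Subtype.ext d.2.2⟩,
        fun _ => rfl, fun _ => rfl⟩])

theorem two_mul_le [Finite W] {A B : AddSubgroup W} (h : A < B) : 2 * Nat.card A ≤ Nat.card B := by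
  obtain ⟨k, hk⟩ := AddSubgroup.card_dvd_of_le h.le
  have h1 : Nat.card A ≠ Nat.card B := fun e => h.ne (AddSubgroup.eq_of_le_of_card_ge h.le e.ge)
  have h2 : 0 < Nat.card B := Nat.card_pos
  rw [hk] at h1 h2 ⊢
  rcases k with _ | _ | k
  · omega
  · omega
  · nlinarith

theorem cube {x : Γ} (hx : x ^ 3 = 1) (w : W) : x • x • x • w = w := by
  rw [← mul_smul, ← mul_smul, ← pow_three', hx, one_smul]

theorem span4 (h2 : ∀ w : W, w + w = 0) {a b : Γ} (ha : a ^ 3 = 1) (hb : b ^ 3 = 1)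
    (hab : a * b = b * a) {D : AddSubgroup W} (h1 : Fx W a ≤ D) (h2' : Fx W b ≤ D)
    (h3 : Fx W (a * b) ≤ D) (h4 : Fx W (a * b * b) ≤ D) (v : W) : v ∈ D := by
  have N : ∀ x : Γ, x ^ 3 = 1 → ∀ w : W, w + x • w + x • x • w ∈ Fx W x := fun x hx w => by
    rw [mem_Fx, smul_add, smul_add, cube hx]
    abel
  have c : Commute a b := hab
  have k := D.add_mem (D.add_mem (D.add_mem (D.add_mem (h1 (N a ha v)) (h2' (N b hb v)))
    (h3 (N _ (by rw [c.mul_pow, ha, hb, one_mul]) v)))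
    (h4 (N _ (by rw [(c.mul_left (Commute.refl b)).mul_pow, c.mul_pow, ha, hb]; simp) v)))
    (h1 (N a ha (v + b • v + b • b • v)))
  have e1 : ∀ w : W, b • a • w = a • b • w := fun w => by rw [← mul_smul, ← hab, mul_smul]
  simp only [smul_add, mul_smul, e1, cube hb] at k
  convert k using 1
  refine (add_zero v).symm.trans ?_
  rw [← h2 (v + v + a • v + a • a • v + b • v + b • b • v + a • b • v +
    a • a • b • b • v + a • b • b • v + a • a • b • v)]
  abel

theorem dvd16 {d : ℕ} (h : d ∣ 16) : d = 1 ∨ d = 2 ∨ d = 4 ∨ d = 8 ∨ d = 16 := by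
  have := Nat.le_of_dvd (by norm_num) h
  interval_cases d <;> omega

theorem card_fx [Finite W] (hf : ∀ g : Γ, (∀ w : W, g • w = w) → g = 1) {x : Γ} (h1 : x ≠ 1)
    (r : ℕ) [Fact r.Prime] (hx : x ^ r = 1) : Nat.card (Fx W x) ∣ Nat.card W ∧
      Nat.card (Fx W x) ≠ Nat.card W ∧ Nat.card W ≡ Nat.card (Fx W x) [MOD r] := by
  refine ⟨AddSubgroup.card_addSubgroup_dvd_card _, fun e => h1 (hf x fun w =>
    (AddSubgroup.eq_top_of_card_eq _ e).ge (AddSubgroup.mem_top w)), ?_⟩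
  have := fx_mod (W := W) ⊤ r hx fun _ _ => trivial
  rwa [top_inf_eq, AddSubgroup.card_top] at this

theorem lin [Finite W] (h2 : ∀ w : W, w + w = 0) (hW : Nat.card W = 16)
    (hf : ∀ g : Γ, (∀ w : W, g • w = w) → g = 1) {a b c t g h t₂ t₃ : Γ}
    (ha : a ^ 3 = 1) (hab : a * b = b * a) (hg : b = g * a * g⁻¹) (hh : c = h * (a * b) * h⁻¹)
    (a1 : a ≠ 1) (ab1 : a * b ≠ 1) (ab2 : a * b * b ≠ 1) (tt : t * t = 1) (ta : t * a = a * a * t)
    (tb : t * b = b * t) (e₂ : t₂ = c * t * c⁻¹) (e₃ : t₃ = c * t₂ * c⁻¹) (c2 : t * t₂ = t₂ * t)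
    (c3 : t * t₃ = t₃ * t) (h0 : Fx W a ≠ ⊥) :
    ∃ L : AddSubgroup W, Nat.card L ≤ 4 ∧ (∀ v ∈ L, c • v ∈ L) ∧ L ≤ Fx W t ∧ Fx W (t * t₂) ≤ L ∧
      Fx W (t * t₂ * t₃) ≤ L ∧ ∀ s ∈ Fx W t, ∀ x, b • s = x + t • x + s → s ∈ L := by
  have : Fact (Nat.Prime 3) := ⟨Nat.prime_three⟩
  have z2 : ∀ {u v : W}, u + v = 0 ↔ u = v := fun {u v} =>
    ⟨fun h => by rw [← add_zero u, ← h2 v, ← add_assoc, h, zero_add], fun h => h ▸ h2 u⟩
  have aa' : ∀ u v : W, u + (u + v) = v := fun u v => by rw [← add_assoc, h2, zero_add]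
  have aa'' : ∀ u v : W, u + v + v = u := fun u v => by rw [add_assoc, h2, add_zero]
  have hb : b ^ 3 = 1 := by rw [hg, conj_pow, ha]; simp
  have cm : Commute a b := hab
  have hab3 : (a * b) ^ 3 = 1 := by rw [cm.mul_pow, ha, hb, one_mul]
  have hc : c ^ 3 = 1 := by rw [hh, conj_pow, hab3]; simp
  have four : ∀ x : Γ, x ≠ 1 → x ^ 3 = 1 → Fx W x ≠ ⊥ → Nat.card (Fx W x) = 4 := fun x h1 hx h => by
    obtain ⟨k1, k2, k3⟩ := card_fx hf h1 3 hx
    have := mt AddSubgroup.card_eq_one.1 h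
    rw [hW] at k1 k2 k3
    unfold Nat.ModEq at k3
    rcases dvd16 k1 with e | e | e | e | e <;> omega
  have b1 : b ≠ 1 := fun e => a1 (by rw [e] at hg; exact conj_eq_one_iff.1 hg.symm)
  have h0' : Fx W b ≠ ⊥ := fun e => h0 (by
    have := Fx_conj_bot g⁻¹ e
    rwa [hg, show g⁻¹ * (g * a * g⁻¹) * g⁻¹⁻¹ = a by group] at this)
  have c₁ := four a a1 ha h0
  have c₂ := four b b1 hb h0'
  have cs : ∀ {x y : Γ}, x * y = y * x → ∀ v ∈ Fx W x, y • v ∈ Fx W x := fun {x y} e v hv => by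
    rw [mem_Fx, ← mul_smul, e, mul_smul, mem_Fx.1 hv]
  have sub4 : ∀ (A B : AddSubgroup W), Nat.card A = 4 → A ⊓ B ≠ ⊥ →
      Nat.card (A ⊓ B : AddSubgroup W) % 3 = 1 → A ≤ B := fun A B hA h e => by
    have k1 := AddSubgroup.card_dvd_of_le (inf_le_left : A ⊓ B ≤ A)
    have k2 := mt AddSubgroup.card_eq_one.1 h
    rw [hA] at k1
    have k3 := dvd16 (k1.trans (by norm_num))
    have k4 := Nat.le_of_dvd (by norm_num) k1
    exact inf_eq_left.1 (AddSubgroup.eq_of_le_of_card_ge inf_le_left (by omega))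
  have dj : Fx W a ⊓ Fx W b = ⊥ := by
    by_contra k
    have l := sub4 _ _ c₁ k (by
      have := fx_mod _ 3 hb (cs hab)
      rw [c₁] at this; exact this.symm)
    have l' : ∀ x : Γ, x ≠ 1 → x ^ 3 = 1 → Fx W a ≤ Fx W x → Fx W x ≤ Fx W a := fun x h1 hx h =>
      (AddSubgroup.eq_of_le_of_card_ge h
        (by rw [c₁, four x h1 hx fun e => h0 (eq_bot_iff.2 (h.trans e.le))])).ge
    have l1 : Fx W a ≤ Fx W (a * b) := fun v hv => by rw [mem_Fx, mul_smul, l hv, hv]
    exact a1 (hf a (span4 h2 ha hb hab le_rfl (l' b b1 hb l) (l' _ ab1 hab3 l1)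
      (l' _ ab2 (by rw [(cm.mul_left (Commute.refl b)).mul_pow, hab3, hb, one_mul])
        fun v hv => by rw [mem_Fx, mul_smul, l hv, l1 hv])))
  have dj' : ∀ v ∈ Fx W a, v ∈ Fx W b → v = 0 := fun v h h' => dj.le ⟨h, h'⟩
  have dec : ∀ v, ∃ u ∈ Fx W a, ∃ w ∈ Fx W b, v = u + w := fun v => by
    let φ : Fx W a × Fx W b → W := fun p => p.1 + p.2
    have hi : Function.Injective φ := fun p q e => by
      have e' : (p.1 : W) + q.1 = p.2 + q.2 := by
        rw [← z2, add_add_add_comm, z2]; exact e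
      have k := dj' _ (add_mem p.1.2 q.1.2) (e' ▸ add_mem p.2.2 q.2.2)
      exact Prod.ext (Subtype.ext (z2.1 k)) (Subtype.ext (z2.1 (e' ▸ k)))
    obtain ⟨p, rfl⟩ := ((Nat.bijective_iff_injective_and_card φ).2
      ⟨hi, by rw [Nat.card_prod, c₁, c₂, hW]⟩).2 v
    exact ⟨_, p.1.2, _, p.2.2, rfl⟩
  have fc : Fx W c = ⊥ := hh ▸ Fx_conj_bot h (eq_bot_iff.2 fun v hv => by
    obtain ⟨u, hu, w, hw, rfl⟩ := dec v
    rw [mem_Fx, smul_add, mul_smul a b w, mem_Fx.1 hw, hab, mul_smul, mem_Fx.1 hu] at hv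
    have e : b • u + u = a • w + w := by rw [← z2, add_add_add_comm, z2]; exact hv
    have k := dj' _ (add_mem (cs hab u hu) hu) (e ▸ add_mem (cs hab.symm w hw) hw)
    rw [dj' u hu (z2.1 k), dj' w (z2.1 (e ▸ k)) hw, add_zero]
    exact zero_mem _)
  have t2 : t ^ 2 = 1 := by rw [pow_two, tt]
  have ne2 : ∀ A : AddSubgroup W, Nat.card A = 4 → (∀ v ∈ A, t • v ∈ A) → A ⊓ Fx W t ≠ ⊥ :=
    fun A hA h e => by
      have := fx_mod _ 2 t2 h
      rw [hA, e, AddSubgroup.card_bot] at this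
      exact absurd this (by decide)
  have f1 : Fx W a ≤ Fx W t := sub4 _ _ c₁ (ne2 _ c₁ fun v hv => by
      have e : a • a • t • v = t • v := by rw [← mul_smul, ← mul_smul, ← ta, mul_smul, mem_Fx.1 hv]
      exact (congrArg (a • ·) e).symm.trans (cube ha _)) (by
    have := fx_mod (Fx W a ⊓ Fx W t) 3 hb fun v hv => ⟨cs hab v hv.1, cs tb v hv.2⟩
    rw [inf_right_comm, dj, bot_inf_eq, AddSubgroup.card_bot] at this
    exact this)
  obtain ⟨z, ⟨hz, tz⟩, z0⟩ := (AddSubgroup.bot_or_exists_ne_zero _).resolve_left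
    (ne2 _ c₂ (cs tb.symm))
  have a3 : ∀ w : W, a • a • a • w = w := cube ha
  have az : a • z ≠ z := fun e => z0 (dj' z e hz)
  have sz : a • z + a • a • z = z := by
    rw [← z2]
    refine dj' _ ?_ (add_mem (add_mem (cs hab.symm _ hz) (cs hab.symm _ (cs hab.symm _ hz))) hz)
    rw [mem_Fx, smul_add, smul_add, a3]; abel
  have taz : t • a • z = a • z + z := by
    rw [← mul_smul, ta, mul_smul, mul_smul, mem_Fx.1 tz]
    exact (aa' (a • z) _).symm.trans (by rw [sz])
  have tv : ∀ v, t • v = v ∨ t • v = v + z := fun v => by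
    obtain ⟨u, hu, w, hw, rfl⟩ := dec v
    rw [smul_add, f1 hu, add_assoc, add_right_inj, add_right_inj]
    by_cases k : w ∈ Fx W t
    · exact Or.inl k
    have n : a • z ∉ Fx W t := fun e => z0 (by rwa [mem_Fx, taz, add_eq_left] at e)
    have l : Fx W b ⊓ Fx W t < Fx W b := lt_of_le_of_ne inf_le_left fun e => k (inf_eq_left.1 e hw)
    have i2 : ∀ y ∈ Fx W b, y ∉ Fx W t → y + a • z ∈ Fx W t := fun y hy hy' => by
      by_contra k'
      have : ({0, z, y, y + z, a • z, a • z + z} : Set W).ncard ≤ 4 := by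
        rw [← c₂, ← Nat.card_coe_set_eq]
        refine Nat.card_mono (Set.toFinite _) ?_
        have := cs hab.symm _ hz
        simp only [Set.insert_subset_iff, Set.singleton_subset_iff, SetLike.mem_coe]
        exact ⟨zero_mem _, hz, hy, add_mem hy hz, this, add_mem this hz⟩
      have p : ∀ {x y : W}, x ∈ Fx W t → y ∉ Fx W t → x ≠ y := fun h h' e => h' (e ▸ h)
      have q : ∀ {x : W}, x ∉ Fx W t → x + z ∉ Fx W t := fun h e =>
        h ((AddSubgroup.add_mem_cancel_right _ tz).1 e)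
      have r : ∀ {x y : W}, x + y ∉ Fx W t → x ≠ y := fun h e => h (z2.2 e ▸ zero_mem _)
      rw [Set.ncard_insert_of_notMem (by
          simp [z0.symm, p (zero_mem _) hy', p (zero_mem _) (q hy'), p (zero_mem _) n,
            p (zero_mem _) (q n)]),
        Set.ncard_insert_of_notMem (by simp [p tz hy', p tz (q hy'), p tz n, p tz (q n)]),
        Set.ncard_insert_of_notMem (by simp [z0, r k', r (add_assoc y _ z ▸ q k')]),
        Set.ncard_insert_of_notMem (by simp [r k', r (add_right_comm y _ z ▸ q k')]),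
        Set.ncard_insert_of_notMem (by simp [z0]), Set.ncard_singleton] at this
      omega
    have := i2 w hw k
    rw [mem_Fx, smul_add, taz, add_comm _ z, ← add_assoc, add_left_inj] at this
    exact Or.inr ((aa'' _ z).symm.trans (by rw [this]))
  have mv : t • a • z ≠ a • z := fun e => z0 (by rwa [taz, add_eq_left] at e)
  have c3' : ∀ w : W, c • c • c • w = w := cube hc
  have fc' : ∀ v : W, c • v = v → v = 0 := fun v h => fc.le h
  have sc : c • c • z = z + c • z := by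
    rw [← z2]
    apply fc'
    rw [smul_add, smul_add, c3']; abel
  have cz : c • z ≠ z := fun e => z0 (fc' z e)
  have cz0 : c • z ≠ 0 := by rwa [Ne, smul_eq_zero_iff_eq]
  have tr : ∀ {s : Γ} {y : W}, (∀ v, s • v = v ∨ s • v = v + y) →
      ∀ v, (c * s * c⁻¹) • v = v ∨ (c * s * c⁻¹) • v = v + c • y := fun {s y} h v => by
    rw [mul_smul, mul_smul]
    rcases h (c⁻¹ • v) with e | e <;> rw [e]
    · exact Or.inl (smul_inv_smul _ _)
    · exact Or.inr (by rw [smul_add, smul_inv_smul])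
  have tv₂ := tr tv
  rw [← e₂] at tv₂
  have tv₃ := tr tv₂
  rw [← e₃, sc] at tv₃
  have F₂ : ∀ v : W, c • v ∈ Fx W t₂ ↔ v ∈ Fx W t := fun v => e₂ ▸ Fx_conj c t
  have F₃ : ∀ v : W, c • v ∈ Fx W t₃ ↔ v ∈ Fx W t₂ := fun v => e₃ ▸ Fx_conj c t₂
  have F₁ : ∀ v : W, c • v ∈ Fx W t ↔ v ∈ Fx W t₃ := fun v => by rw [← F₂, ← F₃, c3']
  have fixz : ∀ s : Γ, t * s = s * t → s • z = z := fun s e => by
    have k : s • z = t • s • a • z + s • a • z := by
      rw [← mul_smul, e, mul_smul, ← smul_add, taz, add_comm, aa']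
    rcases tv (s • a • z) with f | f <;> rw [f] at k
    · rw [h2, smul_eq_zero_iff_eq] at k; exact absurd k z0
    · rw [k, add_comm, aa']
  let L : AddSubgroup W := Fx W t ⊓ Fx W t₂
  have zL : z ∈ L := ⟨tz, fixz _ c2⟩
  have czL : c • z ∈ L := ⟨(F₁ z).2 (fixz _ c3), (F₂ z).2 tz⟩
  obtain ⟨p, p1, p2⟩ : ∃ p ∈ Fx W t₂, p ∉ Fx W t := by
    by_contra! k
    have k1 : ∀ v ∈ Fx W t, c • v ∈ Fx W t := fun v hv => k _ ((F₂ v).2 hv)
    have hi : Function.Injective fun v : W => c • v + v := fun u v e => by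
      rw [← z2]; apply fc'
      rw [smul_add, ← z2, add_add_add_comm, z2]; exact e
    obtain ⟨v, hv⟩ := Finite.injective_iff_surjective.1 hi (a • z)
    apply mv
    rw [← hv]
    by_cases m : v ∈ Fx W t
    · exact add_mem (k1 v m) m
    · have m' : c • v ∉ Fx W t := fun e => m (c3' v ▸ k1 _ (k1 _ e))
      change t • (c • v + v) = c • v + v
      rw [smul_add, (tv _).resolve_left m, (tv _).resolve_left m', add_add_add_comm, h2, add_zero]
  have cL : Nat.card L ≤ 4 := by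
    have k1 := two_mul_le (lt_of_le_of_ne inf_le_right fun e => p2 (inf_eq_right.1 e p1) :
      L < Fx W t₂)
    have k2 := two_mul_le (lt_top_iff_ne_top.2 fun e => mv ((F₂ _).1 (e.ge trivial)) : Fx W t₂ < ⊤)
    rw [AddSubgroup.card_top] at k2
    omega
  have eL : ∀ v ∈ L, v = 0 ∨ v = z ∨ v = c • z ∨ v = z + c • z := fun v hv => by
    have : ({0, z, c • z, z + c • z} : Set W) = L := Set.eq_of_subset_of_ncard_le (by
      simp only [Set.insert_subset_iff, Set.singleton_subset_iff, SetLike.mem_coe]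
      exact ⟨zero_mem _, zL, czL, add_mem zL czL⟩) (by
      rw [Set.ncard_insert_of_notMem (by simp [z0.symm, cz0.symm, eq_comm (a := (0 : W)), z2, cz.symm]),
        Set.ncard_insert_of_notMem (by simp [cz.symm, cz0]),
        Set.ncard_insert_of_notMem (by simp [z0]), Set.ncard_singleton]
      exact cL)
    exact this.ge hv
  have iL : ∀ v ∈ L, c • v ∈ L := fun v hv => by
    rcases eL v hv with rfl | rfl | rfl | rfl
    · rw [smul_zero]; exact zero_mem _
    · exact czL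
    · rw [sc]; exact add_mem zL czL
    · rw [smul_add, sc, add_comm z, aa']; exact zL
  have L13 : ∀ v ∈ Fx W t, v ∈ Fx W t₃ → v ∈ L := fun v h h' =>
    c3' v ▸ iL _ (iL _ ⟨(F₁ v).2 h', (F₂ v).2 h⟩)
  have L23 : ∀ v ∈ Fx W t₂, v ∈ Fx W t₃ → v ∈ L := fun v h h' =>
    c3' v ▸ iL _ (iL _ (L13 _ ((F₁ v).2 h') ((F₃ v).2 h)))
  have ti : ∀ {u v : W}, t • u = v → u = t • v := fun h => by rw [← h, ← mul_smul, tt, one_smul]
  refine ⟨L, cL, iL, inf_le_left, fun v hv => ?_, fun v hv => ?_, fun s hs x e => ?_⟩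
  · have k := ti ((mul_smul _ _ _).symm.trans hv)
    rcases tv v with e | e <;> rcases tv₂ v with f | f
    · exact ⟨e, f⟩
    · rw [e, f, add_eq_left] at k; exact absurd k cz0
    · rw [e, f, left_eq_add] at k; exact absurd k z0
    · rw [e, f, add_right_inj] at k; exact absurd k cz
  · rw [mem_Fx, mul_smul, mul_smul] at hv
    have k := ti hv
    have k3 : t₂ • (z + c • z) = z + c • z := (add_mem zL czL).2
    rcases tv₃ v with e₃ | e₃
    · rw [e₃] at k
      rcases tv v with e | e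
      · exact L13 v e e₃
      · rcases tv₂ v with f | f
        · exact L23 v f e₃
        · rw [e, f, add_right_inj] at k; exact absurd k cz
    rw [e₃, smul_add, k3] at k
    rcases tv v with e | e <;> rcases tv₂ v with f | f
    · exact ⟨e, f⟩
    · rw [e, f, add_assoc, add_eq_left, add_comm z, aa'] at k; exact absurd k z0
    · rw [e, f, add_right_inj, add_eq_left] at k; exact absurd k cz0
    · exfalso
      have p3 : p ∉ Fx W t₃ := fun h => p2 (L23 p p1 h).1
      have : v + p ∈ Fx W t₂ := (L13 (v + p)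
        (by rw [mem_Fx, smul_add, e, (tv p).resolve_left p2, add_add_add_comm, h2, add_zero])
        (by rw [mem_Fx, smul_add, e₃, (tv₃ p).resolve_left p3, add_add_add_comm, h2, add_zero])).2
      rw [AddSubgroup.add_mem_cancel_right _ p1, mem_Fx, f, add_eq_left] at this
      exact cz0 this
  · obtain ⟨u, hu, w, hw, rfl⟩ := dec s
    have k : b • u + u = x + t • x := by
      rw [smul_add, mem_Fx.1 hw, ← add_assoc, add_left_inj] at e
      rw [e, aa'']
    have k' : b • u + u = 0 := dj' _ (add_mem (cs hab u hu) hu) (by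
      rcases tv x with f | f <;> rw [k, f]
      · rw [h2]; exact zero_mem _
      · rw [aa']; exact hz)
    rw [dj' u hu (z2.1 k'), zero_add] at hs ⊢
    have l : Fx W b ⊓ Fx W t < Fx W b := lt_of_le_of_ne inf_le_left fun e =>
      mv (inf_eq_left.1 e (cs hab.symm _ hz))
    have := two_mul_le l
    have : ({0, z} : Set W) = (Fx W b ⊓ Fx W t : AddSubgroup W) := Set.eq_of_subset_of_ncard_le (by
      simp only [Set.insert_subset_iff, Set.singleton_subset_iff, SetLike.mem_coe]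
      exact ⟨zero_mem _, hz, tz⟩) (by
      rw [Set.ncard_pair z0.symm]
      change Nat.card (Fx W b ⊓ Fx W t : AddSubgroup W) ≤ 2
      omega)
    rcases this.ge ⟨hw, hs⟩ with rfl | rfl
    · exact zero_mem _
    · exact zL

end Cfsg.Agent.SR4.IB
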