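import Cfsg.Agent.SR4.I0
import Cfsg.Agent.SR4.IBa

set_option autoImplicit false

namespace Cfsg.Agent.SR4

open Subgroup Cfsg.Agent.H49
open scoped commutatorElement

namespace IB

/-- the configuration inside `S₆` -/
structure Dat {Γ : Type*} [Group Γ] [DecidableEq Γ] (a b c t g h t₂ t₃ : Γ) : Prop where
  ha : a ^ 3 = 1
  hab : a * b = b * a
  hg : b = g * a * g⁻¹
  hh : c = h * (a * b) * h⁻¹
  a1 : a ≠ 1
  ab1 : a * b ≠ 1
  ab2 : a * b * b ≠ 1
  tt : t * t = 1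
  ta : t * a = a * a * t
  tb : t * b = b * t
  e₂ : t₂ = c * t * c⁻¹
  e₃ : t₃ = c * t₂ * c⁻¹
  e₁ : t = c * t₃ * c⁻¹
  c2 : t * t₂ = t₂ * t
  c3 : t * t₃ = t₃ * t
  card : ({1, t, t₂, t₃, t * t₂, t₂ * t₃, t₃ * t, t * t₂ * t₃} : Finset Γ).card = 8
  mul : ∀ x ∈ ({1, t, t₂, t₃, t * t₂, t₂ * t₃, t₃ * t, t * t₂ * t₃} : Finset Γ),
    ∀ y ∈ ({1, t, t₂, t₃, t * t₂, t₂ * t₃, t₃ * t, t * t₂ * t₃} : Finset Γ),
      x * y ∈ ({1, t, t₂, t₃, t * t₂, t₂ * t₃, t₃ * t, t * t₂ * t₃} : Finset Γ)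
  sq : ∀ x ∈ ({1, t, t₂, t₃, t * t₂, t₂ * t₃, t₃ * t, t * t₂ * t₃} : Finset Γ), x * x = 1

open Equiv in
theorem dat1 : Dat (Γ := Perm (Fin 6)) c[0, 1, 2] c[3, 4, 5] (c[0, 2, 4] * c[1, 3, 5]) c[0, 1]
    (c[0, 3] * c[1, 4] * c[2, 5]) (c[1, 2, 4, 5]) c[2, 3] c[4, 5] := by
  constructor <;> decide +kernel

open Equiv in
theorem dat2 : Dat (Γ := Perm (Fin 6)) (c[0, 1, 2] * c[3, 4, 5]) (c[0, 1, 2] * c[3, 5, 4])
    c[5, 2, 4] (c[0, 3] * c[1, 5] * c[2, 4]) c[4, 5] (c[0, 5] * c[1, 4]) (c[0, 3] * c[1, 2] * c[4, 5])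
    (c[0, 3] * c[1, 4] * c[2, 5]) := by
  constructor <;> decide +kernel

theorem key {Y Γ : Type*} [Group Y] [Finite Y] [Group Γ] [DecidableEq Γ] (h4 : S4 Y)
    (V : Subgroup Y) [V.Normal] (h2 : ∀ v ∈ V, v * v = 1) (hc : 𝒞(V) ≤ V) (φ : Γ →* Y ⧸ V)
    (hφ : Function.Injective φ) {f a₀ b₀ k : Γ} (hf : f ^ 5 = 1) (f1 : f ≠ 1)
    (hk : a₀ * b₀ * b₀ = k * (a₀ * b₀) * k⁻¹) {c t g h t₂ t₃ c' t' g' h' t₂' t₃' b' : Γ}
    (d : Dat a₀ b₀ c t g h t₂ t₃) (d' : Dat (a₀ * b₀) b' c' t' g' h' t₂' t₃') : False := by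
  have inv : ∀ v ∈ V, v⁻¹ = v := fun v hv => inv_eq_of_mul_eq_one_right (h2 v hv)
  have cm : ∀ u ∈ V, ∀ v ∈ V, u * v = v * u := fun u hu v hv => by
    rw [← inv _ (mul_mem hu hv), mul_inv_rev, inv u hu, inv v hv]
  let _ : CommGroup V := { (inferInstance : Group V) with
    mul_comm := fun u v => Subtype.ext (cm _ u.2 _ v.2) }
  let ψ : Y ⧸ V →* MulAut V := QuotientGroup.lift V MulAut.conjNormal fun x hx => by
    ext v
    simp [cm x hx _ v.2]
  let _ : DistribMulAction Γ (Additive V) :=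
    { smul := fun g v => Additive.ofMul (ψ (φ g) v.toMul)
      one_smul := fun v => by
        change Additive.ofMul (ψ (φ 1) v.toMul) = v
        simp
      mul_smul := fun g h v => by
        change Additive.ofMul (ψ (φ (g * h)) v.toMul) = Additive.ofMul (ψ (φ g) (ψ (φ h) v.toMul))
        simp
      smul_zero := fun g => congrArg Additive.ofMul (map_one (ψ (φ g)))
      smul_add := fun g u v => congrArg Additive.ofMul (map_mul (ψ (φ g)) _ _) }
  have sm : ∀ {g : Γ} {y : Y}, (y : Y ⧸ V) = φ g → ∀ v : Additive V,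
      ((g • v).toMul : Y) = y * (v.toMul : V) * y⁻¹ := fun {g y} e v => by
    change ((ψ (φ g) v.toMul : V) : Y) = _
    rw [← e]; rfl
  have ext : ∀ {u v : Additive V}, ((u.toMul : V) : Y) = (v.toMul : V) → u = v := fun e =>
    Additive.toMul.injective (Subtype.ext e)
  have a2 : ∀ w : Additive V, w + w = 0 := fun w => ext (h2 _ w.toMul.2)
  have fa : ∀ g : Γ, (∀ w : Additive V, g • w = w) → g = 1 := fun g hg => by
    obtain ⟨y, hy⟩ := QuotientGroup.mk_surjective (φ g)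
    refine hφ (by
      rw [← hy, map_one, QuotientGroup.eq_one_iff]
      refine hc fun v hv => ?_
      have := sm hy (Additive.ofMul ⟨v, hv⟩)
      rw [hg] at this
      exact eq_mul_inv_iff_mul_eq.1 this)
  have c16 : Nat.card (Additive V) = 16 := by
    have : Fact (Nat.Prime 5) := ⟨by norm_num⟩
    obtain ⟨k1, k2, k3⟩ := card_fx fa f1 5 hf
    have k4 := h4 V ⊥ bot_le (by rw [normalizer_eq_top]; exact le_top) h2
    rw [relIndex_bot_left] at k4
    obtain ⟨n, hn⟩ := IsPGroup.iff_card.1 (show IsPGroup 2 V from fun v =>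
      ⟨1, Subtype.ext (by rw [pow_one, pow_two]; exact h2 _ v.2)⟩)
    change Nat.card (Additive V) = _ at hn
    change Nat.card (Additive V) ≤ _ at k4
    rw [hn] at k1 k2 k3 k4 ⊢
    have : n ≤ 4 := (Nat.pow_le_pow_iff_right (by norm_num)).1 (k4.trans_eq (by norm_num))
    have k5 := Nat.le_of_dvd (by positivity) k1
    unfold Nat.ModEq at k3
    interval_cases n
    all_goals first | rfl | (exfalso; rcases dvd16 (k1.trans (by norm_num)) with e | e | e | e | e <;> omega)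
  suffices H : ∀ {a b c t g h t₂ t₃ : Γ}, Dat a b c t g h t₂ t₃ → Fx (Additive V) a = ⊥ by
    have e1 := H d
    have e2 := H d'
    refine d.a1 (fa _ fun w => ?_)
    have := span4 a2 d.ha (by rw [d.hg, conj_pow, d.ha]; simp) d.hab e1.le
      (d.hg ▸ Fx_conj_bot g e1).le e2.le (hk ▸ Fx_conj_bot k e2).le w
    rw [AddSubgroup.mem_bot.1 this, smul_zero]
  intro a b c t g h t₂ t₃ d
  by_contra h0
  obtain ⟨L, cL, iL, l0, l1, l2, l3⟩ := lin a2 c16 fa d.ha d.hab d.hg d.hh d.a1 d.ab1 d.ab2 d.tt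
    d.ta d.tb d.e₂ d.e₃ d.c2 d.c3 h0
  let N : Subgroup Y := (AddSubgroup.toSubgroup' L).map V.subtype
  have mN : ∀ w : Additive V, w ∈ L → ((w.toMul : V) : Y) ∈ N := fun w hw => ⟨w.toMul, hw, rfl⟩
  let T : Subgroup Γ :=
    { carrier := ({1, t, t₂, t₃, t * t₂, t₂ * t₃, t₃ * t, t * t₂ * t₃} : Finset Γ)
      one_mem' := by simp
      mul_mem' := fun {x y} hx hy => d.mul x hx y hy
      inv_mem' := fun {x} hx => by rwa [inv_eq_of_mul_eq_one_right (d.sq x hx)] }
  have sqV : ∀ {s : Γ} {y : Y}, (y : Y ⧸ V) = φ s → s * s = 1 → y * y ∈ V := fun e hs => by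
    rw [← QuotientGroup.eq_one_iff, QuotientGroup.mk_mul, e, ← map_mul, hs, map_one]
  have sqF : ∀ {s : Γ} {y : Y} (e : (y : Y ⧸ V) = φ s) (hs : s * s = 1),
      Additive.ofMul (⟨y * y, sqV e hs⟩ : V) ∈ Fx (Additive V) s := fun e hs =>
    ext ((sm e _).trans (by simp only [toMul_ofMul]; group))
  let G : Γ → Prop := fun s => ∀ y : Y, (y : Y ⧸ V) = φ s → y * y ∈ N
  obtain ⟨x, hx⟩ := QuotientGroup.mk_surjective (φ c)
  have cN : ∀ n ∈ N, x * n * x⁻¹ ∈ N := by
    rintro _ ⟨n, hn, rfl⟩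
    have := mN _ (iL (Additive.ofMul n) hn)
    rwa [sm hx] at this
  have Gc : ∀ s, G s → G (c * s * c⁻¹) := fun s hs y e => by
    have := cN _ (hs (x⁻¹ * y * x) (by simp [e, hx, mul_assoc]))
    convert this using 1; group
  have G1 : G t := fun y e => by
    obtain ⟨u, hu⟩ := QuotientGroup.mk_surjective (φ b)
    have m : u * y * u⁻¹ * y⁻¹ ∈ V := by
      rw [← QuotientGroup.eq_one_iff]
      simp only [QuotientGroup.mk_mul, QuotientGroup.mk_inv, e, hu, ← map_mul, ← map_inv, ← d.tb]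
      simp
    refine mN _ (l3 _ (sqF e d.tt) (Additive.ofMul ⟨_, m⟩) (ext ?_))
    rw [sm hu, toMul_add, toMul_add, coe_mul, coe_mul, sm e]
    simp only [toMul_ofMul]
    group
  have G12 : G (t * t₂) := fun y e => mN _ (l1 (sqF e (d.sq _ (by simp))))
  have G123 : G (t * t₂ * t₃) := fun y e => mN _ (l2 (sqF e (d.sq _ (by simp))))
  have G2 : G t₂ := d.e₂ ▸ Gc _ G1
  have G23 : G (t₂ * t₃) := by
    have := Gc _ G12
    rwa [show c * (t * t₂) * c⁻¹ = c * t * c⁻¹ * (c * t₂ * c⁻¹) by group, ← d.e₂, ← d.e₃] at this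
  have G31 : G (t₃ * t) := by
    have := Gc _ G23
    rwa [show c * (t₂ * t₃) * c⁻¹ = c * t₂ * c⁻¹ * (c * t₃ * c⁻¹) by group, ← d.e₃, ← d.e₁] at this
  have f2 : L ≤ Fx (Additive V) t₂ := fun v hv => by
    have c3 := cube (x := c) (by
      rw [d.hh, conj_pow, (show Commute a b from d.hab).mul_pow, d.ha, d.hg, conj_pow, d.ha]
      simp) v
    rw [← c3, d.e₂, Fx_conj]; exact l0 (iL _ (iL _ hv))
  have f3 : L ≤ Fx (Additive V) t₃ := fun v hv => by
    have c3 := cube (x := c) (by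
      rw [d.hh, conj_pow, (show Commute a b from d.hab).mul_pow, d.ha, d.hg, conj_pow, d.ha]
      simp) v
    rw [← c3, d.e₃, Fx_conj]; exact f2 (iL _ (iL _ hv))
  let H := (T.map φ).comap (QuotientGroup.mk' V)
  have NV : N ≤ V := map_subtype_le _
  have VH : V ≤ H := fun v hv => ⟨1, one_mem _, by
    rw [map_one]; exact ((QuotientGroup.eq_one_iff v).2 hv).symm⟩
  have k := h4 H N (NV.trans VH) (le_trans ?_ (centralizer_le_normalizer _)) ?_
  · rw [← relIndex_mul_relIndex N V H NV VH] at k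
    have e1 : V.relIndex H = 8 := by
      conv_lhs => rw [← QuotientGroup.ker_mk' V, ← MonoidHom.comap_bot]
      rw [relIndex_comap, map_comap_eq_self_of_surjective (QuotientGroup.mk'_surjective V),
        relIndex_bot_left, card_map_of_injective hφ, ← d.card]
      exact Nat.card_eq_finsetCard ({1, t, t₂, t₃, t * t₂, t₂ * t₃, t₃ * t, t * t₂ * t₃} : Finset Γ)
    have e2 := relIndex_mul_relIndex ⊥ N V bot_le NV
    rw [relIndex_bot_left, relIndex_bot_left, card_map_of_injective V.subtype_injective] at e2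
    change Nat.card L * _ = Nat.card (Additive V) at e2
    rw [c16] at e2
    rw [e1] at k
    nlinarith
  · rintro y ⟨s, hs, e⟩ _ ⟨n, hn, rfl⟩
    have k1 := mem_Fx.1 (l0 (show Additive.ofMul n ∈ L from hn))
    have k2 := mem_Fx.1 (f2 (show Additive.ofMul n ∈ L from hn))
    have k3 := mem_Fx.1 (f3 (show Additive.ofMul n ∈ L from hn))
    have : s • Additive.ofMul n = Additive.ofMul n := by
      simp only [T, coe_set_mk, Submonoid.coe_set_mk, Subsemigroup.coe_set_mk,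
        Finset.coe_insert, Set.mem_insert_iff, Finset.coe_singleton, Set.mem_singleton_iff] at hs
      rcases hs with rfl | rfl | rfl | rfl | rfl | rfl | rfl | rfl <;>
        simp only [mul_smul, one_smul, k1, k2, k3]
    have k := sm e.symm (Additive.ofMul n)
    rw [this] at k
    exact eq_mul_inv_iff_mul_eq.1 k
  · rintro y ⟨s, hs, e⟩
    simp only [T, coe_set_mk, Submonoid.coe_set_mk, Subsemigroup.coe_set_mk,
      Finset.coe_insert, Set.mem_insert_iff, Finset.coe_singleton, Set.mem_singleton_iff] at hs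
    rcases hs with rfl | rfl | rfl | rfl | rfl | rfl | rfl | rfl
    · rw [h2 y ((QuotientGroup.eq_one_iff y).1 (e.symm.trans (map_one φ)))]; exact one_mem _
    exacts [G1 y e.symm, G2 y e.symm, (d.e₃ ▸ Gc _ G2) y e.symm, G12 y e.symm, G23 y e.symm,
      G31 y e.symm, G123 y e.symm]

end IB

variable {X : Type*} [Group X] [Finite X]

theorem CX.no_s6 {Q : Subgroup X} [Q.Normal] (h : CX Q) (h4 : S4 X) (H : Subgroup (X ⧸ Q)) :
    ¬ Nonempty (H ≃* Equiv.Perm (Fin 6)) := by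
  rintro ⟨e⟩
  let Φ : Subgroup X := (frattini Q).map Q.subtype
  have hΦ : Φ ≤ Q := map_subtype_le _
  let π := QuotientGroup.mk' Φ
  let ε := QuotientGroup.quotientQuotientEquivQuotient Φ Q hΦ
  refine IB.key (h4.quot Φ) (Q.map π) ?_ ?_
    (ε.symm.toMonoidHom.comp (H.subtype.comp e.symm.toMonoidHom))
    (ε.symm.injective.comp (H.subtype_injective.comp e.symm.injective))
    (f := c[0, 1, 2, 3, 4]) (k := c[4, 5]) (by decide +kernel) (by decide +kernel)
    (by decide +kernel) IB.dat1 IB.dat2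
  · rintro _ ⟨q, hq, rfl⟩
    rw [← map_mul, ← pow_two]
    exact (QuotientGroup.eq_one_iff _).2 ⟨_, H3.pow_mem_frattini h.two ⟨q, hq⟩, rfl⟩
  · intro g hg
    obtain ⟨g, rfl⟩ := QuotientGroup.mk'_surjective Φ g
    refine mem_map_of_mem π (h.mem_of_frattini fun q hq => (QuotientGroup.eq_one_iff _).1 ?_)
    change π _ = 1
    rw [map_commutatorElement, commutatorElement_eq_one_iff_mul_comm]
    exact (hg _ (mem_map_of_mem π hq)).symm

end Cfsg.Agent.SR4
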